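import Groth.Agent.L10.TopDual.Alg
import Mathlib.Algebra.Category.ModuleCat.Injective
import Mathlib.Algebra.Homology.DerivedCategory.KInjective
import Mathlib.RingTheory.SimpleModule.InjectiveProjective

/-!
# Maps from any complex of vector spaces into the field are functionals in degree zero
-/

set_option autoImplicit false
set_option backward.defeqAttrib.useBackward true
set_option backward.isDefEq.respectTransparency false
set_option backward.isDefEq.respectTransparency.types false
set_option linter.style.haveILetI false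

universe u

open CategoryTheory CategoryTheory.Limits CategoryTheory.Pretriangulated DerivedCategory

attribute [local instance] HasDerivedCategory.standard

noncomputable section

namespace Groth.L17.CDInj

variable (k : Type u) [Field k]

/-- A complex in degrees `≥ 1` has no maps into the field. -/
theorem hom_field_eq_zero (M : Dual.D k) [M.IsGE 1] (f : M ⟶ Dual.inD k k) : f = 0 := by
  let A := ModuleCat.{u} k
  let J := (CochainComplex.singleFunctor A 0).obj (ModuleCat.of k k)
  haveI : Module.Injective k k := Module.injective_of_isSemisimpleRing k k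
  haveI : Injective (ModuleCat.of k k) := Module.injective_object_of_injective_module k k
  haveI : ∀ n, Injective (J.X n) := fun n => by
    by_cases hn : n = 0
    · subst hn
      exact Injective.of_iso (HomologicalComplex.singleObjXSelf (ComplexShape.up ℤ) 0 _).symm inferInstance
    · exact (HomologicalComplex.isZero_single_obj_X (ComplexShape.up ℤ) 0 _ n hn).injective
  haveI : J.IsStrictlyGE 0 := (CochainComplex.isStrictlyGE_iff _ _).2 fun n hn =>
    HomologicalComplex.isZero_single_obj_X (ComplexShape.up ℤ) 0 _ n (by omega)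
  haveI := CochainComplex.isKInjective_of_injective J 0
  obtain ⟨K, _, ⟨eK⟩⟩ := DerivedCategory.exists_iso_Q_obj_of_isGE M 1
  let q := DerivedCategory.quotientCompQhIso A
  let eJ := ((SingleFunctors.evaluation _ _ 0).mapIso (DerivedCategory.singleFunctorsPostcompQIso A)).app
    (ModuleCat.of k k)
  obtain ⟨g, hg⟩ := (CochainComplex.IsKInjective.Qh_map_bijective
    ((HomotopyCategory.quotient A (ComplexShape.up ℤ)).obj K) J).2
    ((q.hom.app _) ≫ (eK.inv ≫ f ≫ eJ.hom) ≫ q.inv.app J)
  obtain ⟨g', rfl⟩ := (HomotopyCategory.quotient A (ComplexShape.up ℤ)).map_surjective g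
  have h0 : g' = 0 := by
    ext n : 1
    by_cases hn : n = 0
    · subst hn
      exact (K.isZero_of_isStrictlyGE 1 0 (by omega)).eq_of_src _ _
    · exact (HomologicalComplex.isZero_single_obj_X (ComplexShape.up ℤ) 0 _ n hn).eq_of_tgt _ _
  subst h0
  rw [Functor.map_zero, Functor.map_zero] at hg
  have h1 : eK.inv ≫ f ≫ eJ.hom = 0 := by
    rw [← cancel_epi (q.hom.app _), ← cancel_mono (q.inv.app J), comp_zero, zero_comp, Category.assoc]
    exact hg.symm
  rw [← cancel_epi eK.inv, ← cancel_mono eJ.hom, comp_zero, zero_comp, Category.assoc]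
  exact h1

/-- Maps into the field are the functionals on the elements in degree zero. -/
theorem existsUnique_hom_field (N : Dual.D k) (l : (Dual.inD k k ⟶ N) →ₗ[k] (Dual.inD k k ⟶ Dual.inD k k)) :
    ∃! v : N ⟶ Dual.inD k k, ∀ y : Dual.inD k k ⟶ N, y ≫ v = l y := by
  let t := DerivedCategory.TStructure.t (C := ModuleCat.{u} k)
  let H := DerivedCategory.homologyFunctor (ModuleCat.{u} k) 0
  let ι := (t.truncLTι 1).app N
  let W := (t.truncLT 1).obj N
  haveI hW : W.IsLE 0 := t.isLE_truncLT_obj _ _ _ (by omega)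
  haveI hι : IsIso (H.map ι) := Groth.L10.isIso_H_ι (A := ModuleCat.{u} k) 1 0 (by omega) N
  haveI : DerivedCategory.IsGE (Dual.inD k k) 0 := inferInstance
  have hpost : Function.Bijective fun y : Dual.inD k k ⟶ W => y ≫ ι := by
    have hc : ∀ y : Dual.inD k k ⟶ W, Groth.L29.HomD.evalOne N (y ≫ ι) =
        H.map ι (Groth.L29.HomD.evalOne W y) := fun y => Groth.L10.TopDual.evalOne_comp y ι
    have hb : Function.Bijective (H.map ι) := ConcreteCategory.bijective_of_isIso (H.map ι)
    refine (Function.Bijective.of_comp_iff' (Groth.L29.HomD.evalOne_bijective N) _).1 ?_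
    rw [show (⇑(Groth.L29.HomD.evalOne N) ∘ fun y : Dual.inD k k ⟶ W => y ≫ ι) =
      ⇑(H.map ι) ∘ ⇑(Groth.L29.HomD.evalOne W) from funext hc]
    exact hb.comp (Groth.L29.HomD.evalOne_bijective W)
  obtain ⟨v₀, hv₀, huniq⟩ := Groth.L10.TopDual.existsUnique_hom W (Dual.inD k k) (l ∘ₗ Linear.rightComp k _ ι)
  let T := (t.triangleLTGE 1).obj N
  have hT : T ∈ distTriang _ := t.triangleLTGE_distinguished 1 N
  haveI h1 : ((t.truncGE 1).obj N).IsGE 1 := inferInstanceAs (t.IsGE ((t.truncGE 1).obj N) 1)
  haveI h2 : (((t.truncGE 1).obj N)⟦(-1 : ℤ)⟧).IsGE 1 := by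
    haveI : t.IsGE ((t.truncGE 1).obj N) 1 := h1
    haveI := t.isGE_shift ((t.truncGE 1).obj N) 1 (-1) 2 (by omega)
    exact t.isGE_of_ge _ 1 2 (by omega)
  obtain ⟨v, hv⟩ : ∃ v : N ⟶ Dual.inD k k, v₀ = ι ≫ v :=
    Triangle.yoneda_exact₂ _ (inv_rot_of_distTriang _ hT) v₀
      (hom_field_eq_zero k (((t.truncGE 1).obj N)⟦(-1 : ℤ)⟧) _)
  refine ⟨v, fun y => ?_, fun v' hv' => ?_⟩
  · obtain ⟨y, rfl⟩ := hpost.2 y
    change (y ≫ ι) ≫ v = _
    rw [Category.assoc, ← hv, hv₀]
    rfl
  · have e : ι ≫ v' = v₀ := huniq _ fun y => by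
      rw [← Category.assoc, hv']
      rfl
    obtain ⟨w, hw⟩ : ∃ w, v' - v = (t.truncGEπ 1).app N ≫ w :=
      Triangle.yoneda_exact₂ _ hT (v' - v) (by
        show ι ≫ (v' - v) = 0
        rw [Preadditive.comp_sub, e, hv, sub_self])
    rw [hom_field_eq_zero k _ w, comp_zero, sub_eq_zero] at hw
    exact hw

end Groth.L17.CDInj
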