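import Groth.Agent.L17.IdealMulExtend
import Groth.Agent.L29.Sib.InjSub
import Groth.Agent.L22.ExtSh.RestrictHom
import Mathlib.Algebra.Homology.DerivedCategory.Ext.Map

/-!
# Extension classes vanishing off the zero set of an ideal are killed by a power of the ideal
-/

set_option autoImplicit false
set_option backward.isDefEq.respectTransparency false
set_option backward.isDefEq.respectTransparency.types false
set_option linter.style.haveILetI false
set_option linter.unusedSectionVars false

universe u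

open CategoryTheory CategoryTheory.Limits CategoryTheory.Abelian AlgebraicGeometry

noncomputable section

namespace Groth.L17.CDInj

open Groth.L17.IdealMulExtend

variable {X : Scheme.{u}} [IsNoetherian X] (I : X.IdealSheafData) {U : X.Opens}
  (hU : (U : Set X) = (I.support : Set X)ᶜ)
  [HasExt.{u} X.Modules] [HasExt.{u} (U : Scheme.{u}).Modules]
  [PreservesFiniteLimits (Scheme.Modules.restrictFunctor U.ι)]
  [PreservesFiniteColimits (Scheme.Modules.restrictFunctor U.ι)]
  [(Scheme.Modules.restrictFunctor U.ι).Additive]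

include hU

/-- A map to a quasi-coherent module vanishing off the zero set is killed by a power of the ideal. -/
theorem exists_kill_hom {G Q : X.Modules} (hG : Coh.IsCoh G) [Coh.IsQCoh Q] (g : G ⟶ Q)
    (hg : (Scheme.Modules.restrictFunctor U.ι).map g = 0) :
    ∃ N : ℕ, Dual3.idealMulι (I ^ N) G ≫ g = 0 := by
  obtain ⟨N, ι, hι, h⟩ := exists_comp_eq_zero Q G hG I hU 0 (Dual3.idealMulι (I ^ 0) G ≫ g)
    (by rw [Functor.map_comp, hg, comp_zero])
  exact ⟨N, by rw [← hι, Category.assoc]; exact h⟩

/-- An extension class vanishing off the zero set is killed by a power of the ideal. -/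
theorem exists_kill : ∀ (q : ℕ) {G W : X.Modules}, Coh.IsCoh G → Coh.IsQCoh W → ∀ y : Ext.{u} G W q,
    y.mapExactFunctor (Scheme.Modules.restrictFunctor U.ι) = 0 →
      ∃ N : ℕ, (Ext.mk₀ (Dual3.idealMulι (I ^ N) G)).comp y (zero_add q) = 0 := by
  let R := Scheme.Modules.restrictFunctor U.ι
  intro q
  induction q with
  | zero =>
    intro G W hG hW y hy
    obtain ⟨g, rfl⟩ := (Ext.mk₀_bijective G W).2 y
    rw [Ext.mapExactFunctor_mk₀] at hy
    obtain ⟨N, hN⟩ := exists_kill_hom I hU hG g ((Ext.mk₀_bijective _ _).1 (hy.trans (Ext.mk₀_zero _ _).symm))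
    exact ⟨N, by rw [Ext.mk₀_comp_mk₀, hN, Ext.mk₀_zero]⟩
  | succ q ih =>
    intro G W hG hW y hy
    obtain ⟨T, φ, hφ, hT, hTi⟩ := Groth.L29.InjSub.exists_mono_injective W
    let S := ShortComplex.mk φ (cokernel.π φ) (cokernel.condition φ)
    have hS : S.ShortExact := { exact := ShortComplex.exact_of_g_is_cokernel _ (cokernelIsCokernel _) }
    haveI : Injective S.X₂ := hTi
    haveI hQ : Coh.IsQCoh (cokernel φ) := Groth.L16.Devissage.isQCoh_cokernel φ
    obtain ⟨z, rfl⟩ := Ext.covariant_sequence_exact₁ G hS y (Ext.eq_zero_of_injective _) rfl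
    have hzU : (z.mapExactFunctor R).comp (hS.map_of_exact R).extClass rfl = 0 := by
      rw [← Ext.mapExactFunctor_extClass, ← Ext.mapExactFunctor_comp]
      exact hy
    obtain ⟨w, hw⟩ := Ext.covariant_sequence_exact₃ _ (hS.map_of_exact R) _ rfl hzU
    rcases q with _ | q
    · -- degree one: lift off the zero set and extend
      obtain ⟨z₀, rfl⟩ := (Ext.mk₀_bijective G S.X₃).2 z
      obtain ⟨w₀, rfl⟩ := (Ext.mk₀_bijective _ _).2 w
      rw [Ext.mapExactFunctor_mk₀, Ext.mk₀_comp_mk₀] at hw
      have hw₀ : w₀ ≫ R.map (cokernel.π φ) = R.map z₀ := (Ext.mk₀_bijective _ _).1 hw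
      obtain ⟨n, ψ, hψ⟩ := exists_extend T G hG I U hU w₀
      haveI := hG.1
      obtain ⟨N, l, hl, hd⟩ := exists_comp_eq_zero (cokernel φ) G hG I hU n
        (Dual3.idealMulι (I ^ n) G ≫ z₀ - ψ ≫ cokernel.π φ) (by
          rw [Functor.map_sub, Functor.map_comp, Functor.map_comp, hψ, Category.assoc, hw₀, sub_self])
      refine ⟨N, ?_⟩
      have h1 : Dual3.idealMulι (I ^ N) G ≫ z₀ = (l ≫ ψ) ≫ S.g := by
        rw [Preadditive.comp_sub, sub_eq_zero, ← Category.assoc, hl] at hd
        rw [hd, Category.assoc]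
      rw [Ext.mk₀_comp_mk₀_assoc, h1, ← Ext.mk₀_comp_mk₀_assoc, hS.comp_extClass, Ext.comp_zero]
    · -- higher degrees: restrictions of injectives are injective
      haveI : Injective (S.map R).X₂ := Groth.L22.ExtSh.injective_restrict U.ι T
      rw [Ext.eq_zero_of_injective w, Ext.zero_comp] at hw
      obtain ⟨N, hN⟩ := ih (W := cokernel φ) hG hQ z hw.symm
      refine ⟨N, ?_⟩
      rw [← Ext.comp_assoc _ _ _ (zero_add (q + 1)) rfl (by omega), hN, Ext.zero_comp]

end Groth.L17.CDInj
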