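import Groth.Agent.L17.CDInj.Setup
import Groth.Agent.L17.BC.Sheaf
import Groth.Agent.L22.Reg.ClosedQuot
import Groth.Agent.L18.ProZeroLimit
import Groth.Agent.L16.ProperFinite
import Groth.Agent.L20.ResAmple

/-!
# Pro-zero cohomology of powers of an ideal below the codimension given by cohomological dimension
-/

set_option autoImplicit false
set_option backward.isDefEq.respectTransparency false
set_option backward.isDefEq.respectTransparency.types false
set_option linter.style.haveILetI false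
set_option linter.unusedSectionVars false

universe u

open CategoryTheory CategoryTheory.Limits CategoryTheory.Abelian AlgebraicGeometry

noncomputable section

namespace Groth.L17.CDInj

open Groth.L17.IdealMulExtend Groth.L17.IdealMulSec
open Groth.L16.CohLinear (hmap hmap_comp exact_hmap_hmap)

variable {X : Scheme.{u}} (I : X.IdealSheafData)

/-- A higher power of the ideal maps into a power applied to a power. -/
theorem exists_lift_pow [IsNoetherian X] {G : X.Modules} (hG : Coh.IsCoh G) (n d : ℕ) :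
    ∃ (l : (Dual3.idealMul (I ^ (n + d))).obj G ⟶ (Dual3.idealMul (I ^ n)).obj G)
      (l' : (Dual3.idealMul (I ^ (n + d))).obj G ⟶ (Dual3.idealMul (I ^ d)).obj ((Dual3.idealMul (I ^ n)).obj G)),
      l ≫ Dual3.idealMulι (I ^ n) G = Dual3.idealMulι (I ^ (n + d)) G ∧
        l' ≫ Dual3.idealMulι (I ^ d) ((Dual3.idealMul (I ^ n)).obj G) = l := by
  haveI := hG.1
  obtain ⟨l, hl⟩ := exists_le (I ^ (n + d)) G (J := I ^ n) (pow_le_pow I (Nat.le_add_right _ _))
  haveI := isQCoh_idealMul (I ^ (n + d)) G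
  haveI := isQCoh_idealMul (I ^ n) G
  have h0 : l ≫ η (I ^ d) ((Dual3.idealMul (I ^ n)).obj G) = 0 := by
    refine Groth.L20.ResDescent.eq_zero_of_affine _ fun x => ?_
    obtain ⟨_, ⟨V, hV, rfl⟩, hxV, -⟩ :=
      X.isBasis_affineOpens.exists_subset_of_mem_open (Set.mem_univ x) isOpen_univ
    refine ⟨V, hV, hxV, fun m => ?_⟩
    show (η (I ^ d) _).app V (l.app V m) = 0
    refine (@η_app_eq_zero_iff _ (I ^ d) _ (isQCoh_idealMul (I ^ n) G) _ hV _).2 ?_
    rw [Scheme.IdealSheafData.ideal_pow, Pi.pow_apply]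
    exact lift_app_mem I G n d l hl hV m
  exact ⟨l, kernel.lift _ l h0, hl, kernel.lift_ι _ _ _⟩

/-- Off the zero set a power of the ideal changes nothing. -/
theorem isIso_restrict_idealMulι [IsNoetherian X] {G : X.Modules} (hG : Coh.IsCoh G) {U : X.Opens}
    (hU : (U : Set X) = (I.support : Set X)ᶜ) (n : ℕ) :
    IsIso ((Scheme.Modules.restrictFunctor U.ι).map (Dual3.idealMulι (I ^ n) G)) := by
  haveI := hG.1
  refine Groth.L17.BC.Classes.isIso_of_affine _ fun y => ⟨⊤, trivial, fun V _ hV => ?_⟩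
  have hW : IsAffineOpen (U.ι ''ᵁ V) := hV.image_of_isOpenImmersion U.ι
  have hle : U.ι ''ᵁ V ≤ U := by
    rintro _ ⟨x, -, rfl⟩
    exact x.2
  have htop : (I ^ n).ideal ⟨U.ι ''ᵁ V, hW⟩ = ⊤ := by
    have h1 : I.ideal ⟨U.ι ''ᵁ V, hW⟩ = ⊤ := by
      by_contra hne
      obtain ⟨P, hP, hle'⟩ := Ideal.exists_le_maximal _ hne
      let z : X := hW.fromSpec ⟨P, hP.isPrime⟩
      have hzW : z ∈ U.ι ''ᵁ V := hW.range_fromSpec.le ⟨⟨P, hP.isPrime⟩, rfl⟩
      have hz : z ∈ (U : Set X) := hle hzW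
      rw [hU] at hz
      refine hz ((I.mem_support_iff_of_mem (U := ⟨U.ι ''ᵁ V, hW⟩) hzW).2 ?_)
      rw [Scheme.mem_zeroLocus_iff]
      intro a ha hza
      have : (⟨P, hP.isPrime⟩ : Spec Γ(X, U.ι ''ᵁ V)) ∈ hW.fromSpec ⁻¹ᵁ X.basicOpen a := hza
      rw [hW.fromSpec_preimage_basicOpen] at this
      exact this (hle' ha)
    rw [Scheme.IdealSheafData.ideal_pow, Pi.pow_apply, h1, Ideal.top_pow]
  change Function.Bijective ((Dual3.idealMulι (I ^ n) G).app (U.ι ''ᵁ V))
  refine ⟨ι_app_injective (I ^ n) G _, fun s => ?_⟩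
  exact (exists_app_eq_iff (I ^ n) G hW s).2 (by rw [htop, Submodule.top_smul]; trivial)

section Vanishing

variable (k : Type u) [Field k] [IsAlgClosed k] [X.Over (Spec (CommRingCat.of k))]
  [IsProper (X ↘ Spec (CommRingCat.of k))] [IsIntegral X]
  (hreg : ∀ x : X, IsRegularLocalRing (X.presheaf.stalk x)) {n : ℕ} (hdim : topologicalKrullDim X = n)
  {U : X.Opens} (hU : (U : Set X) = (I.support : Set X)ᶜ) {r : ℕ}
  (hcd : ∀ G : (U : Scheme.{u}).Modules, Coh.IsCoh G → ∀ i : ℕ, r < i →
    Subsingleton (Coh.HH (U : Scheme.{u}) G i))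

include k hreg hdim hU hcd

/-- The cohomology of a large power of the ideal maps to zero in low degrees. -/
theorem exists_hmap_zero {G : X.Modules} (hG : Coh.IsCoh G)
    (hGU : FlatMod.IsFinLocFree ((Scheme.Modules.restrictFunctor U.ι).obj G)) {q : ℕ} (hq : q + r + 1 ≤ n) :
    ∃ N : ℕ, ∀ N', N ≤ N' → ∀ z, hmap (Dual3.idealMulι (I ^ N') G) q z = 0 := by
  classical
  let f := X ↘ Spec (CommRingCat.of k)
  haveI : IsLocallyNoetherian X := LocallyOfFiniteType.isLocallyNoetherian f
  haveI : CompactSpace X := QuasiCompact.compactSpace_of_compactSpace f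
  haveI : AlgebraicGeometry.IsNoetherian X := {}
  haveI := Groth.L00.Tensor.grothendieckAbelian_modules X
  haveI := Groth.L00.Tensor.grothendieckAbelian_modules (U : Scheme.{u})
  haveI : HasExt.{u} X.Modules := inferInstance
  haveI : HasExt.{u} (U : Scheme.{u}).Modules := inferInstance
  haveI : PreservesColimitsOfSize.{u, u} (Scheme.Modules.restrictFunctor U.ι) :=
    (Scheme.Modules.restrictAdjunction U.ι).leftAdjoint_preservesColimits
  haveI : (Scheme.Modules.restrictFunctor U.ι).Additive :=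
    haveI := preservesBinaryBiproducts_of_preservesBinaryCoproducts (Scheme.Modules.restrictFunctor U.ι)
    Functor.additive_of_preservesBinaryBiproducts _
  obtain ⟨ω, hω, hΦ⟩ := exists_duality k X hreg n hdim
  obtain ⟨Φ, hbij, hadd, hnat⟩ := hΦ q (n - q) (by omega)
  haveI := hG.1
  haveI := Groth.L16.ProperFinite.finite_HH k hG q
  have hωc := Groth.L16.NegPow.isCoh_of_isFinLocFree hω
  have hkill : ∀ y : Ext.{u} G ω (n - q),
      ∃ N : ℕ, (Ext.mk₀ (Dual3.idealMulι (I ^ N) G)).comp y (zero_add _) = 0 := by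
    intro y
    haveI := subsingleton_ext_of_cd hcd hGU
      (Groth.L16.NegPow.isCoh_of_isFinLocFree (Groth.L29.DC.ExtRegImm.isFinLocFree_restrict hω U)) (show r < n - q by omega)
    exact exists_kill I hU _ hG hωc.1 y (Subsingleton.elim _ _)
  let b := Module.finBasis k (Coh.HH X G q)
  choose y hy using fun j => (hbij G hG.1).2 (b.coord j)
  choose Nj hNj using fun j => hkill (y j)
  refine ⟨Finset.univ.sup Nj, fun N' hN' z => b.ext_elem fun j => ?_⟩
  obtain ⟨l, hl⟩ := exists_le (I ^ N') G (J := I ^ Nj j)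
    (pow_le_pow I ((Finset.le_sup (Finset.mem_univ j)).trans hN'))
  have h0 : Φ ((Dual3.idealMul (I ^ N')).obj G) 0 = 0 := by
    have := hadd ((Dual3.idealMul (I ^ N')).obj G) 0 0
    rwa [add_zero, left_eq_add] at this
  have h1 : (Ext.mk₀ (Dual3.idealMulι (I ^ N') G)).comp (y j) (zero_add _) = 0 := by
    rw [← hl, ← Ext.mk₀_comp_mk₀_assoc, hNj j, Ext.comp_zero]
  have h2 := hnat _ _ (Dual3.idealMulι (I ^ N') G) (y j) z
  rw [h1, h0, hy j] at h2
  simpa using h2.symm

/-- The cohomology of the powers of the ideal is pro-zero in low degrees. -/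
theorem exists_proZero {q : ℕ} (hq : q + r + 1 ≤ n) (m : ℕ) :
    ∃ d : ℕ, ∀ (m' : ℕ) (h : m ≤ m'), m + d ≤ m' → ∀ x, hmap (Groth.L18.OffAffine.im I h) q x = 0 := by
  let f := X ↘ Spec (CommRingCat.of k)
  haveI : IsLocallyNoetherian X := LocallyOfFiniteType.isLocallyNoetherian f
  haveI : CompactSpace X := QuasiCompact.compactSpace_of_compactSpace f
  haveI : AlgebraicGeometry.IsNoetherian X := {}
  let O := Coh.structureModule X
  have hO : Coh.IsCoh O := Groth.L16.CohClosedPush.isCoh_structure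
  haveI := hO.1
  let G := (Dual3.idealMul (I ^ m)).obj O
  have hG : Coh.IsCoh G := isCoh_idealMul (I ^ m) O hO
  have hGU : FlatMod.IsFinLocFree ((Scheme.Modules.restrictFunctor U.ι).obj G) := by
    haveI := isIso_restrict_idealMulι I hO hU m
    refine Groth.L29.LocFree.of_iso (asIso ((Scheme.Modules.restrictFunctor U.ι).map (Dual3.idealMulι (I ^ m) O))).symm
      (Groth.L29.DC.ExtRegImm.isFinLocFree_restrict (Groth.L20.ResDescent.isFinLocFree_of_isInvertible
        (Groth.L18.Ample.isInvertible_structureModule X)) U)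
  obtain ⟨N, hN⟩ := exists_hmap_zero I k hreg hdim hU hcd hG hGU hq
  refine ⟨N, fun m' h hm' x => ?_⟩
  obtain ⟨d, rfl⟩ : ∃ d, m' = m + d := ⟨m' - m, by omega⟩
  obtain ⟨l, l', hl, hl'⟩ := exists_lift_pow I hO m d
  -- the two descriptions of the powers of the ideal
  have key : ∀ a : ℕ, ∃ e : ClSub.idealMod (I ^ a) ≅ (Dual3.idealMul (I ^ a)).obj O,
      e.hom ≫ Dual3.idealMulι (I ^ a) O = ClSub.idealModι (I ^ a) := by
    intro a
    haveI : Coh.IsQCoh ((Dual3.idealMul (I ^ a)).obj O) := isQCoh_idealMul (I ^ a) O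
    have h1 : Dual3.idealMulι (I ^ a) O ≫ ClSub.toSubscheme (I ^ a) = 0 := by
      refine Groth.L20.ResDescent.eq_zero_of_affine _ fun y => ?_
      obtain ⟨_, ⟨V, hV, rfl⟩, hyV, -⟩ :=
        X.isBasis_affineOpens.exists_subset_of_mem_open (Set.mem_univ y) isOpen_univ
      refine ⟨V, hV, hyV, fun s => ?_⟩
      have hs := (exists_app_eq_iff (I ^ a) O hV _).1 ⟨s, rfl⟩
      show (ClSub.toSubscheme (I ^ a)).app V ((Dual3.idealMulι (I ^ a) O).app V s) = 0
      generalize (Dual3.idealMulι (I ^ a) O).app V s = t at hs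
      induction hs using Submodule.smul_induction_on' with
      | smul c hc t _ =>
        rw [Scheme.Modules.Hom.app_smul]
        refine (Groth.L00.PullStalk.push_smul (I ^ a).subschemeι _ V c _).trans ?_
        rw [← (I ^ a).ker_subschemeι_app ⟨V, hV⟩, RingHom.mem_ker] at hc
        exact (congrArg (fun b : Γ((I ^ a).subscheme, (I ^ a).subschemeι ⁻¹ᵁ V) => b •
          (show Γ(Coh.structureModule (I ^ a).subscheme, (I ^ a).subschemeι ⁻¹ᵁ V) from
            (ClSub.toSubscheme (I ^ a)).app V t)) hc).trans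
          (zero_smul Γ((I ^ a).subscheme, (I ^ a).subschemeι ⁻¹ᵁ V) _)
      | add u _ v _ hu hv => rw [map_add, hu, hv, add_zero]
    haveI : Coh.IsQCoh (Coh.structureModule (I ^ a).subscheme) := by
      haveI : IsLocallyNoetherian (I ^ a).subscheme := LocallyOfFiniteType.isLocallyNoetherian (I ^ a).subschemeι
      exact Groth.L16.CohClosedPush.isCoh_structure.1
    haveI : Coh.IsQCoh (ClSub.quotMod (I ^ a)) := Groth.L16.QcqsPush.isQCoh_push _ (I ^ a).subschemeι
    haveI : Coh.IsQCoh (ClSub.idealMod (I ^ a)) := Groth.L18.IdealModule.isQCoh_kernel (ClSub.toSubscheme (I ^ a))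
    have h2 : ClSub.idealModι (I ^ a) ≫ η (I ^ a) O = 0 := by
      refine Groth.L20.ResDescent.eq_zero_of_affine _ fun y => ?_
      obtain ⟨_, ⟨V, hV, rfl⟩, hyV, -⟩ :=
        X.isBasis_affineOpens.exists_subset_of_mem_open (Set.mem_univ y) isOpen_univ
      refine ⟨V, hV, hyV, fun s => ?_⟩
      show (η (I ^ a) O).app V ((ClSub.idealModι (I ^ a)).app V s) = 0
      rw [η_app_eq_zero_iff (I ^ a) O hV]
      have h0 : (ClSub.toSubscheme (I ^ a)).app V ((ClSub.idealModι (I ^ a)).app V s) = 0 :=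
        congrArg (fun q : ClSub.idealMod (I ^ a) ⟶ ClSub.quotMod (I ^ a) => q.app V s) (kernel.condition _)
      have hmem : (show Γ(X, V) from (ClSub.idealModι (I ^ a)).app V s) ∈ (I ^ a).ideal ⟨V, hV⟩ := by
        rw [← (I ^ a).ker_subschemeι_app ⟨V, hV⟩, RingHom.mem_ker]
        exact h0
      have := Submodule.smul_mem_smul (N := (⊤ : Submodule Γ(X, V) Γ(O, V))) hmem
        (Submodule.mem_top (x := (show Γ(O, V) from (1 : Γ(X, V)))))
      convert this using 1
      exact (mul_one (show Γ(X, V) from (ClSub.idealModι (I ^ a)).app V s)).symm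
    refine ⟨⟨kernel.lift (η (I ^ a) O) (ClSub.idealModι (I ^ a)) h2,
      kernel.lift (ClSub.toSubscheme (I ^ a)) (Dual3.idealMulι (I ^ a) O) h1, ?_, ?_⟩, kernel.lift_ι _ _ _⟩
    · refine (cancel_mono (kernel.ι (ClSub.toSubscheme (I ^ a)))).1 ?_
      erw [Category.assoc, kernel.lift_ι, Category.id_comp]
      exact kernel.lift_ι _ _ _
    · refine (cancel_mono (Dual3.idealMulι (I ^ a) O)).1 ?_
      erw [Category.assoc, kernel.lift_ι, Category.id_comp]
      exact kernel.lift_ι _ _ _
  obtain ⟨e, he⟩ := key m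
  obtain ⟨e', he'⟩ := key (m + d)
  have him : Groth.L18.OffAffine.im I h = (e'.hom ≫ l' ≫ Dual3.idealMulι (I ^ d) G) ≫ e.inv := by
    rw [hl', Iso.eq_comp_inv, ← cancel_mono (Dual3.idealMulι (I ^ m) O), Category.assoc, he, Category.assoc, hl, he']
    exact Groth.L18.OffAffine.im_ι I h
  rw [him, hmap_comp, hmap_comp, hmap_comp, hN d (by omega), map_zero]

/-- Classes vanishing on all thickenings vanish. -/
theorem eq_zero_of_unit {F : X.Modules} (hF : FlatMod.IsFinLocFree F) {i : ℕ} (hi : i + r + 1 ≤ n)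
    (x : Coh.HH X F i)
    (hx : ∀ m : ℕ, hmap ((Scheme.Modules.pullbackPushforwardAdjunction (I ^ (m + 1)).subschemeι).unit.app F) i x = 0) :
    x = 0 := by
  let f := X ↘ Spec (CommRingCat.of k)
  haveI : IsLocallyNoetherian X := LocallyOfFiniteType.isLocallyNoetherian f
  have hFc := Groth.L16.NegPow.isCoh_of_isFinLocFree hF
  obtain ⟨N, hN⟩ := exists_hmap_zero I k hreg hdim hU hcd hFc (Groth.L29.DC.ExtRegImm.isFinLocFree_restrict hF U) hi
  haveI := Groth.L22.Reg.epi_unit (I ^ (N + 1)).subschemeι F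
  let S : ShortComplex X.Modules := ShortComplex.mk (Dual3.idealMulι (I ^ (N + 1)) F)
    (η (I ^ (N + 1)) F) (kernel.condition _)
  have hS : S.ShortExact := { exact := ShortComplex.exact_kernel _
                              mono_f := inferInstanceAs (Mono (Dual3.idealMulι (I ^ (N + 1)) F))
                              epi_g := inferInstanceAs (Epi (η (I ^ (N + 1)) F)) }
  obtain ⟨z, hz⟩ := (exact_hmap_hmap hS i x).1 (hx N)
  rw [← hz]
  exact hN (N + 1) (Nat.le_succ N) z

end Vanishing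

end Groth.L17.CDInj
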