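import Groth.Agent.L10.TopDual.Main
import Groth.Agent.L17.CDInj.FieldFun

/-!
# The duality pairing of a scheme whose twisted inverse image of the field is a shifted module
-/

set_option autoImplicit false
set_option backward.defeqAttrib.useBackward true
set_option backward.isDefEq.respectTransparency false
set_option backward.isDefEq.respectTransparency.types false
set_option linter.style.haveILetI false
set_option linter.unusedSectionVars false

universe u

open CategoryTheory CategoryTheory.Limits CategoryTheory.Pretriangulated CategoryTheory.Abelian AlgebraicGeometry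
  DerivedCategory
attribute [local instance] HasDerivedCategory.standard

noncomputable section

namespace Groth.L17.CDInj

open Groth.L16.CohLinear (hmap)
open Groth.L29.BCAdj (OD)
open Groth.L29.DC
open Groth.L21.CurveDual (ev ev_natural)
open Groth.L10.TopDual (isQCohD_inD hmap_smul_id ev_bijective)

variable {k : Type u} [Field k] {X : Scheme.{u}} [X.Over (Spec (CommRingCat.of k))]
  [IsProper (X ↘ Spec (CommRingCat.of k))] [DCoh.HasRpush (X ↘ Spec (CommRingCat.of k))]
  [PreservesFiniteLimits (tilde.functor (CommRingCat.of k))]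

set_option maxHeartbeats 1600000 in
/-- Extensions into the dualizing module are the functionals on cohomology in complementary degree. -/
theorem exists_pairing [HasExt.{u} X.Modules]
    {h : DCoh.RpushPreservesQCoh (X ↘ Spec (CommRingCat.of k))}
    {a : DCoh.DQCoh (Spec (CommRingCat.of k)) ⥤ DCoh.DQCoh X}
    (adj : DCoh.RpushQ (X ↘ Spec (CommRingCat.of k)) h ⊣ a) (W : DCoh.DQCoh (Spec (CommRingCat.of k)))
    (eW : W.obj ≅ (DCoh.tildeD (CommRingCat.of k)).obj (Dual.inD k k))
    (ω : X.Modules) (n : ℕ) (eK : (a.obj W).obj ≅ (DCoh.inD X ω)⟦(n : ℤ)⟧) (i p : ℕ) (hip : i + p = n) :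
    ∃ Φ : ∀ G : X.Modules, Ext.{u} G ω p → (Coh.HH X G i →ₗ[k] k),
      (∀ G : X.Modules, Coh.IsQCoh G → Function.Bijective (Φ G)) ∧
      (∀ (G : X.Modules) (y y' : Ext.{u} G ω p), Φ G (y + y') = Φ G y + Φ G y') ∧
      ∀ (G G' : X.Modules) (g : G' ⟶ G) (y : Ext.{u} G ω p) (z : Coh.HH X G' i),
        Φ G' ((Ext.mk₀ g).comp y (zero_add p)) z = Φ G y (hmap g i z) := by
  let f := X ↘ Spec (CommRingCat.of k)
  letI iS : (Spec (CommRingCat.of k)).Over (Spec (CommRingCat.of k)) := ⟨𝟙 _⟩
  haveI : IsLocallyNoetherian X := LocallyOfFiniteType.isLocallyNoetherian f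
  haveI := Groth.L00.KFlat.hasLpull f
  haveI := Groth.L00.Tensor.grothendieckAbelian_modules X
  haveI : (DCoh.Rpush f).Additive := RpushColim.additive_Rpush f
  have hsq : f ≫ (Spec (CommRingCat.of k) ↘ Spec (CommRingCat.of k)) =
      f ≫ Spec.map (CommRingCat.ofHom (RingHom.id k)) := by
    rw [CommRingCat.ofHom_id, Spec.map_id]; rfl
  -- modules and sheaves on the base
  let R : CommRingCat.{u} := CommRingCat.of k
  have hlin : ∀ (a : k) (N : ModuleCat.{u} R),
      (tilde.functor R).map (a • 𝟙 N) = a • 𝟙 ((tilde.functor R).obj N) := fun a N => by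
    rw [KLin.smul_id]
    exact Groth.L17.BC.TensorA.tilde_smul (R := R) a N
  haveI : (tilde.functor R).Additive :=
    haveI : PreservesColimitsOfSize.{0, 0} (tilde.functor R) := tilde.adjunction.leftAdjoint_preservesColimits
    haveI := preservesBinaryBiproducts_of_preservesBinaryCoproducts (tilde.functor R)
    Functor.additive_of_preservesBinaryBiproducts _
  haveI : PreservesFiniteColimits (tilde.functor R) :=
    haveI : PreservesColimitsOfSize.{0, 0} (tilde.functor R) := tilde.adjunction.leftAdjoint_preservesColimits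
    inferInstance
  haveI : (tilde.functor R).Linear k := ⟨fun {N N'} φ a => by
    rw [show a • φ = (a • 𝟙 N) ≫ φ by rw [Linear.smul_comp, Category.id_comp], Functor.map_comp, hlin,
      Linear.smul_comp]
    exact congrArg (a • ·) (Category.id_comp _)⟩
  obtain ⟨hfull, hfaith⟩ := TildeD.fullyFaithful (R := R)
  let ω₀ : Dual.D k := Dual.inD k k
  let eO : (DCoh.tildeD R).obj ω₀ ≅ OD (Spec R) :=
    ((tilde.functor R).mapDerivedCategorySingleFunctor 0).app (ModuleCat.of k k) ≪≫
      (DerivedCategory.singleFunctor (Spec R).Modules 0).mapIso tildeSelf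
  let Ψ : ∀ M : Dual.D k, (ω₀ ⟶ M) ≃ₗ[k] (OD (Spec R) ⟶ (DCoh.tildeD R).obj M) := fun M =>
    (LinearEquiv.ofBijective ((DCoh.tildeD R).mapLinearMap k)
      ⟨(DCoh.tildeD R).map_injective, (DCoh.tildeD R).map_surjective⟩).trans
      (Linear.homCongr k eO (Iso.refl _))
  have hΨ : ∀ {M M' : Dual.D k} (q : ω₀ ⟶ M) (v : M ⟶ M'),
      Ψ M' (q ≫ v) = Ψ M q ≫ (DCoh.tildeD R).map v := by
    intro M M' q v
    simp [Ψ, Linear.homCongr_apply]
  obtain ⟨o⟩ := Groth.L29.BCAdj.nonempty_Lpull_OD f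
  -- sections upstairs and downstairs
  let Θ : ∀ V : DCoh.D X, (OD X ⟶ V) ≃ₗ[k] (OD (Spec (CommRingCat.of k)) ⟶ (DCoh.Rpush f).obj V) := fun V =>
    { toFun := fun u => (Groth.L29.BC.adj f).homEquiv _ _ (o.hom ≫ u)
      invFun := fun v => o.inv ≫ ((Groth.L29.BC.adj f).homEquiv _ _).symm v
      left_inv := fun u => by dsimp only; rw [Equiv.symm_apply_apply, o.inv_hom_id_assoc]
      right_inv := fun v => by dsimp only; rw [o.hom_inv_id_assoc, Equiv.apply_symm_apply]
      map_add' := fun a b => by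
        simp only [Adjunction.homEquiv_unit, Functor.map_add, Preadditive.comp_add]
      map_smul' := fun r a => by
        have h2 : ∀ {P Q : DCoh.D X} (v : P ⟶ Q), (DCoh.Rpush f).map (r • v) = r • (DCoh.Rpush f).map v :=
          fun v => Groth.L29.BCAdj.Rpush_smul (RingHom.id k) f hsq r v
        simp only [Adjunction.homEquiv_unit, Linear.comp_smul, h2, RingHom.id_apply] }
  have hΘ : ∀ {V V' : DCoh.D X} (u : OD X ⟶ V) (w : V ⟶ V'), Θ V' (u ≫ w) = Θ V u ≫ (DCoh.Rpush f).map w := by
    intro V V' u w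
    change (Groth.L29.BC.adj f).homEquiv _ _ (o.hom ≫ u ≫ w) = (Groth.L29.BC.adj f).homEquiv _ _ (o.hom ≫ u) ≫ _
    rw [← Category.assoc, Adjunction.homEquiv_naturality_right]
  -- cohomology
  let Sh : X.Modules → DCoh.D X := fun F => (DCoh.inD X F)⟦(i : ℤ)⟧
  let E : ∀ F : X.Modules, (OD X ⟶ Sh F) → Coh.HH X F i := fun F y =>
    ev F i (Ext.homEquiv.symm y)
  have hE : ∀ F, Function.Bijective (E F) := fun F =>
    (ev_bijective i F).comp Ext.homEquiv.symm.bijective
  have hEnat : ∀ {F G : X.Modules} (g : F ⟶ G) (y : OD X ⟶ Sh F),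
      E G (y ≫ ((DerivedCategory.singleFunctor X.Modules 0).map g)⟦(i : ℤ)⟧') = hmap g i (E F y) := by
    intro F G g y
    simp only [E]
    rw [← ev_natural]
    refine congrArg (ev G i) ?_
    apply Ext.homEquiv.injective
    rw [Equiv.apply_symm_apply]
    symm
    refine (Ext.comp_hom _ _ _).trans ?_
    rw [Ext.mk₀_hom]
    refine (ShiftedHom.comp_mk₀ _ _ _ _).trans ?_
    simp only [Ext.hom, Equiv.apply_symm_apply]
  have hEadd : ∀ F (a b : OD X ⟶ Sh F), E F (a + b) = E F a + E F b := fun F a b => by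
    simp only [E]
    rw [← map_add]
    refine congrArg _ ?_
    apply Ext.homEquiv.injective
    rw [Equiv.apply_symm_apply]
    refine Eq.trans ?_ (Ext.add_hom _ _).symm
    simp only [Ext.hom, Equiv.apply_symm_apply]
  let eH : ∀ F, (OD X ⟶ Sh F) ≃ₗ[k] Coh.HH X F i := fun F => LinearEquiv.ofBijective
    { toFun := E F
      map_add' := hEadd F
      map_smul' := fun c y => by
        have h1 : c • y = y ≫ ((DerivedCategory.singleFunctor X.Modules 0).map (c • 𝟙 F))⟦(i : ℤ)⟧' := by
          rw [Functor.map_smul, CategoryTheory.Functor.map_id, Functor.map_smul, CategoryTheory.Functor.map_id,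
            Linear.comp_smul]
          exact congrArg (c • ·) (Category.comp_id y).symm
        rw [h1, hEnat, hmap_smul_id]
        rfl } (hE F)
  -- the trace on sections of the twisted inverse image
  let K := (a.obj W).obj
  let ε : (DCoh.Rpush f).obj K ⟶ (DCoh.tildeD R).obj ω₀ := (adj.counit.app W).hom ≫ eW.hom
  let e₀ : (ω₀ ⟶ ω₀) ≃ₗ[k] k := (Groth.L29.HomD.evalEquiv ω₀).trans
    ((DerivedCategory.singleFunctorCompHomologyFunctorIso (ModuleCat.{u} k) 0).app (ModuleCat.of k k)).toLinearEquiv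
  let T : (OD X ⟶ K) →ₗ[k] k :=
    e₀.toLinearMap ∘ₗ (Ψ ω₀).symm.toLinearMap ∘ₗ Linear.rightComp k _ ε ∘ₗ (Θ K).toLinearMap
  have hB : ∀ V : DCoh.D X, DCoh.IsQCohD V →
      Function.Bijective fun v : V ⟶ K => T ∘ₗ Linear.rightComp k (OD X) v := by
    intro V hV
    let Q : DCoh.DQCoh X := ⟨V, hV⟩
    obtain ⟨N, ⟨eN⟩⟩ := (TildeD.isQCohD_iff (R := R) _).1 (h V hV)
    have h1 : Function.Bijective fun v : V ⟶ K => (DCoh.Rpush f).map v ≫ ε := by
      constructor
      · intro p q hpq
        dsimp only [ε] at hpq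
        rw [← Category.assoc, ← Category.assoc, cancel_mono] at hpq
        have := (adj.homEquiv Q W).symm.injective
          (a₁ := ObjectProperty.homMk p) (a₂ := ObjectProperty.homMk q) (ObjectProperty.hom_ext _ (by
            rw [Adjunction.homEquiv_counit, Adjunction.homEquiv_counit]
            exact hpq))
        exact congrArg (fun z : Q ⟶ a.obj W => z.hom) this
      · intro v
        let w : Q ⟶ a.obj W := adj.homEquiv Q W (ObjectProperty.homMk (v ≫ eW.inv))
        refine ⟨w.hom, ?_⟩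
        have h2 : ((adj.homEquiv Q W).symm w).hom = v ≫ eW.inv := by
          simp only [w, Equiv.symm_apply_apply]
          rfl
        rw [Adjunction.homEquiv_counit] at h2
        change (DCoh.Rpush f).map w.hom ≫ (adj.counit.app W).hom ≫ eW.hom = v
        rw [← Category.assoc]
        exact (congrArg (· ≫ eW.hom) h2).trans (by rw [Category.assoc, eW.inv_hom_id, Category.comp_id])
    let c : (OD X ⟶ V) ≃ₗ[k] (ω₀ ⟶ N) :=
      (Θ V).trans ((Linear.homCongr k (Iso.refl (OD (Spec R))) eN.symm).trans (Ψ N).symm)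
    have hc : ∀ (v : V ⟶ K) (w : N ⟶ ω₀), (DCoh.Rpush f).map v ≫ ε = eN.inv ≫ (DCoh.tildeD R).map w →
        ∀ u : OD X ⟶ V, T (u ≫ v) = e₀ (c u ≫ w) := by
      intro v w hw u
      change e₀ ((Ψ ω₀).symm (Θ K (u ≫ v) ≫ ε)) = _
      refine congrArg e₀ ((Ψ ω₀).symm_apply_eq.2 ?_)
      rw [hΘ, Category.assoc, hw, hΨ]
      simp only [c, LinearEquiv.trans_apply, LinearEquiv.apply_symm_apply]
      exact (((congrArg (fun z => (z ≫ eN.inv) ≫ (DCoh.tildeD R).map w) (Category.id_comp (Θ V u))).trans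
        (Category.assoc _ _ _)).symm)
    refine ⟨fun v v' hvv => ?_, fun μ => ?_⟩
    · obtain ⟨w, hw⟩ := (DCoh.tildeD R).map_surjective (eN.hom ≫ (DCoh.Rpush f).map v ≫ ε)
      obtain ⟨w', hw'⟩ := (DCoh.tildeD R).map_surjective (eN.hom ≫ (DCoh.Rpush f).map v' ≫ ε)
      have e : (DCoh.Rpush f).map v ≫ ε = eN.inv ≫ (DCoh.tildeD R).map w := by rw [hw, eN.inv_hom_id_assoc]
      have e' : (DCoh.Rpush f).map v' ≫ ε = eN.inv ≫ (DCoh.tildeD R).map w' := by rw [hw', eN.inv_hom_id_assoc]
      obtain ⟨w₀, -, huniq⟩ := existsUnique_hom_field k N (Linear.rightComp k ω₀ w)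
      have hww : w' = w := (huniq w' fun q => by
        obtain ⟨u, rfl⟩ := c.surjective q
        apply e₀.injective
        change _ = e₀ (c u ≫ w)
        rw [← hc v w e, ← hc v' w' e']
        exact (LinearMap.congr_fun hvv u).symm).trans (huniq w fun q => rfl).symm
      exact h1.1 (e.trans ((hww ▸ e').symm))
    · obtain ⟨w, hw, -⟩ := existsUnique_hom_field k N
        (e₀.symm.toLinearMap ∘ₗ μ ∘ₗ c.symm.toLinearMap)
      obtain ⟨v, hv⟩ := h1.2 (eN.inv ≫ (DCoh.tildeD R).map w)
      refine ⟨v, LinearMap.ext fun u => ?_⟩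
      change T (u ≫ v) = μ u
      rw [hc v w hv u, hw]
      exact (congrArg e₀ (congrArg e₀.symm (congrArg μ (c.symm_apply_apply u)))).trans (e₀.apply_symm_apply _)
  -- the pairing
  let κ : ((DCoh.inD X ω)⟦(p : ℤ)⟧)⟦(i : ℤ)⟧ ≅ K :=
    ((shiftFunctorAdd' (DCoh.D X) (p : ℤ) (i : ℤ) (n : ℤ) (by omega)).symm.app (DCoh.inD X ω)) ≪≫ eK.symm
  let vv : ∀ G : X.Modules, Ext.{u} G ω p → (Sh G ⟶ K) := fun G y => (Ext.homEquiv y)⟦(i : ℤ)⟧' ≫ κ.hom
  refine ⟨fun G y => (T ∘ₗ Linear.rightComp k (OD X) (vv G y)) ∘ₗ (eH G).symm.toLinearMap,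
    fun G hG => ?_, fun G y y' => ?_, fun G G' g y z => ?_⟩
  · have hvv : Function.Bijective (vv G) := by
      refine Function.Bijective.comp ⟨fun a b hab => (cancel_mono κ.hom).1 hab, fun b => ⟨b ≫ κ.inv,
        (Category.assoc _ _ _).trans ((congrArg (b ≫ ·) κ.inv_hom_id).trans (Category.comp_id b))⟩⟩ ?_
      exact Function.Bijective.comp (g := fun q => q⟦(i : ℤ)⟧')
        ⟨(shiftFunctor (DCoh.D X) (i : ℤ)).map_injective, (shiftFunctor (DCoh.D X) (i : ℤ)).map_surjective⟩
        Ext.homEquiv.bijective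
    refine Function.Bijective.comp (g := fun μ : (OD X ⟶ Sh G) →ₗ[k] k => μ ∘ₗ (eH G).symm.toLinearMap)
      ⟨fun a b hab => LinearMap.ext fun u => ?_, fun b => ⟨b ∘ₗ (eH G).toLinearMap, ?_⟩⟩
      ((hB (Sh G) (Gen.isQCohD_shift (isQCohD_inD G hG) _)).comp hvv)
    · simpa using LinearMap.congr_fun hab (eH G u)
    · ext u; simp
  · ext z
    have : vv G (y + y') = vv G y + vv G y' := by
      simp only [vv]
      rw [show Ext.homEquiv (y + y') = Ext.homEquiv y + Ext.homEquiv y' from Ext.add_hom y y',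
        Functor.map_add, Preadditive.add_comp]
    simp [this, Preadditive.comp_add]
  · have hy : vv G' ((Ext.mk₀ g).comp y (zero_add p)) =
        ((DerivedCategory.singleFunctor X.Modules 0).map g)⟦(i : ℤ)⟧' ≫ vv G y := by
      simp only [vv]
      rw [← Category.assoc, ← Functor.map_comp]
      congr 2
      refine (Ext.comp_hom _ _ _).trans ?_
      rw [Ext.mk₀_hom]
      exact ShiftedHom.mk₀_comp _ _ _ _
    obtain ⟨u, rfl⟩ := (eH G').surjective z
    change T ((eH G').symm (eH G' u) ≫ vv G' _) = T ((eH G).symm (hmap g i (eH G' u)) ≫ vv G y)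
    rw [show hmap g i (eH G' u) = eH G (u ≫ ((DerivedCategory.singleFunctor X.Modules 0).map g)⟦(i : ℤ)⟧') from
      (hEnat g u).symm, LinearEquiv.symm_apply_apply, LinearEquiv.symm_apply_apply, hy, Category.assoc]

end Groth.L17.CDInj
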