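import Groth.Agent.L17.CDInj.Pairing
import Groth.Agent.L17.CDInj.Kill
import Groth.Agent.L17.Duality
import Groth.Agent.L12.ExtSh.Free
import Groth.Agent.L15.OmegaCoh
import Groth.Agent.L02.Canon.Basic
import Groth.Agent.L05.HypBertini.RelDim
import Groth.Agent.L26.Weil.Axes
import Groth.Agent.L22.PDual.RegVanish
import Groth.Agent.L20.ResDescent
import Groth.Agent.L29.DCoh.ExtRegImm
import Groth.Agent.L16.NegPow.Gen
import Groth.Agent.S3635

/-!
# Serre duality for regular proper varieties, and vanishing of extensions over an open of small cohomological dimension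
-/

set_option autoImplicit false
set_option backward.defeqAttrib.useBackward true
set_option backward.isDefEq.respectTransparency false
set_option backward.isDefEq.respectTransparency.types false
set_option linter.style.haveILetI false

universe u

open CategoryTheory CategoryTheory.Limits CategoryTheory.Abelian AlgebraicGeometry
  DerivedCategory
attribute [local instance] HasDerivedCategory.standard

noncomputable section

namespace Groth.L17.CDInj

open Groth.L29.DC
open Groth.L16.CohLinear (hmap)

/-- Serre duality in all degrees, naturally in the module. -/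
theorem exists_duality (k : Type u) [Field k] [IsAlgClosed k] (X : Scheme.{u})
    [X.Over (Spec (CommRingCat.of k))] [IsProper (X ↘ Spec (CommRingCat.of k))] [IsIntegral X]
    (hreg : ∀ x : X, IsRegularLocalRing (X.presheaf.stalk x)) (n : ℕ) (hdim : topologicalKrullDim X = n)
    [HasExt.{u} X.Modules] :
    ∃ ω : X.Modules, FlatMod.IsFinLocFree ω ∧ ∀ i p : ℕ, i + p = n →
      ∃ Φ : ∀ G : X.Modules, Ext.{u} G ω p → (Coh.HH X G i →ₗ[k] k),
        (∀ G : X.Modules, Coh.IsQCoh G → Function.Bijective (Φ G)) ∧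
        (∀ (G : X.Modules) (y y' : Ext.{u} G ω p), Φ G (y + y') = Φ G y + Φ G y') ∧
        ∀ (G G' : X.Modules) (g : G' ⟶ G) (y : Ext.{u} G ω p) (z : Coh.HH X G' i),
          Φ G' ((Ext.mk₀ g).comp y (zero_add p)) z = Φ G y (hmap g i z) := by
  let f := X ↘ Spec (CommRingCat.of k)
  haveI := fun (R : CommRingCat.{u}) => Groth.L18.TildeF.tilde_preservesFiniteLimits (R := R)
  haveI : IsLocallyNoetherian X := LocallyOfFiniteType.isLocallyNoetherian f
  haveI : CompactSpace X := QuasiCompact.compactSpace_of_compactSpace f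
  haveI : AlgebraicGeometry.IsNoetherian X := {}
  haveI : DCoh.HasRpush f := RpushQC.hasRpush f
  have h : DCoh.RpushPreservesQCoh f := fun K hK => RpushQC.isQCohD_Rpush f K hK
  haveI := Groth.Agent.S1766.result X (Spec (CommRingCat.of k)) f h
  let adj := Adjunction.ofIsLeftAdjoint (ObjectProperty.lift DCoh.IsQCohD
    (ObjectProperty.ι DCoh.IsQCohD ⋙ DCoh.Rpush f) (fun K => h K.obj K.property))
  let W : DCoh.DQCoh (Spec (CommRingCat.of k)) :=
    ⟨(DCoh.tildeD (CommRingCat.of k)).obj (Dual.inD k k), (TildeD.isQCohD_iff (R := CommRingCat.of k) _).2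
      ⟨_, ⟨Iso.refl _⟩⟩⟩
  haveI : PreservesFiniteColimits (tilde.functor (CommRingCat.of k)) :=
    haveI : PreservesColimitsOfSize.{0, 0} (tilde.functor (CommRingCat.of k)) := tilde.adjunction.leftAdjoint_preservesColimits
    inferInstance
  haveI : Smooth f := Groth.L26.Weil.smooth_of_regular_closed f fun x _ => hreg x
  haveI : SmoothOfRelativeDimension n f := Groth.L05.HypBertini.smoothOfRelativeDimension_of_stalks f n
    fun y hy => Groth.L22.PDual.dim_stalk_closed_point k hdim hy
  haveI : Coh.IsQCoh (Omega.sheaf f) := (Groth.L15.OmegaCoh.isCoh_omega f).1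
  obtain ⟨L, hL⟩ := Groth.L12.ExtSh.exists_isExtPow (Omega.sheaf f) n
  have hfree : FlatMod.IsFinLocFree (Omega.sheaf f) := fun x => by
    obtain ⟨U, hx, e⟩ := Groth.L02.Canon.isFinLocFreeOfRank_omega (f := f) n x
    exact ⟨U, n, hx, e⟩
  have hωfree : FlatMod.IsFinLocFree L := Groth.L12.ExtSh.isFinLocFree_of_isExtPow hfree hL
  obtain ⟨eK⟩ := Groth.Agent.S3635.result (Spec (CommRingCat.of k)) X n f h _ adj W
    ⟨((tilde.functor (CommRingCat.of k)).mapDerivedCategorySingleFunctor 0).app (ModuleCat.of k k) ≪≫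
      (DerivedCategory.singleFunctor (Spec (CommRingCat.of k)).Modules 0).mapIso tildeSelf⟩ L hL
  exact ⟨L, hωfree, fun i p hip => exists_pairing (h := h) adj W (Iso.refl _) L n eK i p hip⟩

/-- Extensions between locally free modules vanish above the cohomological dimension. -/
theorem subsingleton_ext_of_cd {U : Scheme.{u}} [IsLocallyNoetherian U] [HasExt.{u} U.Modules] {r : ℕ}
    (hcd : ∀ G : U.Modules, Coh.IsCoh G → ∀ i : ℕ, r < i → Subsingleton (Coh.HH U G i))
    {E W : U.Modules} (hE : FlatMod.IsFinLocFree E) (hW : Coh.IsCoh W) {p : ℕ} (hp : r < p) :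
    Subsingleton (Ext.{u} E W p) := by
  haveI := Groth.L17.Duality.hasSheafHom E
  obtain ⟨e⟩ := Groth.L17.Duality.nonempty_ext_iso_cohomology E hE W p
  have hd := Groth.L16.NegPow.isCoh_of_isFinLocFree (Groth.L20.ResDescent.isFinLocFree_dual E hE)
  haveI := hd.1
  haveI := hW.1
  have hc : Coh.IsCoh (CohB1.tensorMod W (Groth.L17.Duality.dual E)) :=
    ⟨Groth.L00.Tensor.isQCoh_tensorMod _ _, Groth.L00.Tensor.isFT_tensorMod _ _ hW.2 hd.2⟩
  haveI : Subsingleton ((Sheaf.functorH (Opens.grothendieckTopology U.toTopCat) p).obj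
      ((Groth.L17.toAbShF U).obj ((Groth.L00.Tensor.tensorRightF (Groth.L17.Duality.dual E)).obj W))) :=
    hcd _ hc p hp
  exact (e.toEquiv.trans ((Sheaf.functorH (Opens.grothendieckTopology U.toTopCat) p).mapIso
    ((Groth.L17.toAbShF U).mapIso ((Groth.L17.Duality.tensorDualIso E hE).app W))).addCommGroupIsoToAddEquiv.toEquiv.symm).subsingleton

end Groth.L17.CDInj
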